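import Groth.Agent.FlatMor12.ResidueRealise
import Groth.Agent.SGA3cLib.GeomConn
import Groth.Agent.SGA3cLib.ArtinComponent
import Groth.Agent.VarietyLib.SeparablePoints
import Groth.Agent.FlatMor12.ConnectedEtaleNhd

/-!
# Geometrically connected opens of fibres after an etale base change
-/

set_option autoImplicit false
set_option linter.style.haveILetI false
set_option backward.isDefEq.respectTransparency false
set_option maxHeartbeats 800000

universe u

open CategoryTheory CategoryTheory.Limits AlgebraicGeometry TopologicalSpace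

namespace Groth.Agent.FlatMorConnCover

/-- A connected open around a point of a scheme of finite type over a field. -/
theorem exists_connected_open {F : Scheme.{u}} [IsLocallyNoetherian F] (x : F) :
    ∃ T : F.Opens, x ∈ T ∧ ConnectedSpace T := by
  let W : Set F := connectedComponent x
  refine ⟨⟨W, SGA3cLib.isOpen_connectedComponent x⟩, mem_connectedComponent, ?_⟩
  exact isConnected_iff_connectedSpace.1 isConnected_connectedComponent

/-- A point with finite separable residue field in a nonempty open. -/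
theorem exists_sep_point {k : CommRingCat.{u}} (hk : IsField k) {F : Scheme.{u}} (p : F ⟶ Spec k)
    [LocallyOfFiniteType p] [GeometricallyReduced p] (T : F.Opens) (hT : (T : Set F).Nonempty) :
    letI := hk.toField
    ∃ (Ω : Type u) (_ : Field Ω) (_ : Algebra k Ω), FiniteDimensional k Ω ∧ Algebra.IsSeparable k Ω ∧
      ∃ p₀ : Spec (CommRingCat.of Ω) ⟶ F, p₀ ≫ p = Spec.map (CommRingCat.ofHom (algebraMap k Ω)) ∧
        Set.range p₀ ⊆ T := by
  letI := hk.toField
  haveI : IsReduced (Spec k) := inferInstance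
  haveI : IsReduced F := by
    haveI : IsReduced (pullback p (𝟙 (Spec k))) :=
      pullback_of_geometrically (GeometricallyReduced.geometrically_isReduced (f := p)) k (𝟙 (Spec k))
    exact isReduced_of_isOpenImmersion (inv (pullback.fst p (𝟙 (Spec k))))
  obtain ⟨t, htT, hts⟩ := FlatMor12.ConnectedEtaleNhd.exists_smooth_mem (k := k) p T hT
  obtain ⟨_, ⟨W, hW, rfl⟩, htW, hWT⟩ :=
    F.isBasis_affineOpens.exists_subset_of_mem_open (show t ∈ ((T ⊓ p.smoothLocus : F.Opens) : Set F) from ⟨htT, hts⟩)
      (T ⊓ p.smoothLocus).2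
  have hφ : ∃ φ : k ⟶ Γ(F, W), Spec.map φ = IsAffineOpen.fromSpec hW ≫ p := ⟨_, Spec.map_preimage _⟩
  obtain ⟨φ, hφ⟩ := hφ
  letI : Algebra k Γ(F, W) := φ.hom.toAlgebra
  haveI : Algebra.Smooth k Γ(F, W) := by
    haveI : LocallyOfFinitePresentation p := inferInstance
    haveI := FlatMor12.ConnectedEtaleNhd.smooth_smoothLocus_ι p (U := W) (fun z hz => (hWT hz).2)
    have : Smooth (IsAffineOpen.fromSpec hW ≫ p) := by
      rw [show IsAffineOpen.fromSpec hW = (IsAffineOpen.isoSpec hW).inv ≫ Scheme.Opens.ι W from rfl, Category.assoc]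
      infer_instance
    rw [← hφ] at this
    exact (HasRingHomProperty.Spec_iff (P := @Smooth)).1 this
  haveI : Nontrivial Γ(F, W) := by
    obtain ⟨P, -⟩ : ∃ P, IsAffineOpen.fromSpec hW P = t := by
      show t ∈ Set.range (IsAffineOpen.fromSpec hW)
      rw [IsAffineOpen.range_fromSpec hW]; exact htW
    exact RingHom.domain_nontrivial (algebraMap _ P.asIdeal.ResidueField)
  obtain ⟨Ω, iF, iA, h1, h2, ⟨ψ⟩⟩ := VarietyLib.exists_separable_point k Γ(F, W)
  refine ⟨Ω, iF, iA, h1, h2, Spec.map (CommRingCat.ofHom ψ.toRingHom) ≫ IsAffineOpen.fromSpec hW, ?_, ?_⟩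
  · rw [Category.assoc, ← hφ, ← Spec.map_comp]
    congr 1
    ext r
    exact ψ.commutes r
  · rintro _ ⟨z, rfl⟩
    exact (hWT ((IsAffineOpen.range_fromSpec hW).subset ⟨_, rfl⟩)).1

/-- After an etale base change there is a geometrically connected open of the fibre at a lift of a point. -/
theorem exists_connected_fibre_open {Y S : Scheme.{u}} (h : Y ⟶ S) [LocallyOfFiniteType h]
    [GeometricallyReduced h] (s : S) (x : h.fiber s) :
    ∃ (U : Scheme.{u}) (g : U ⟶ S) (u : U), Etale g ∧ ∃ (x₁ : (pullback.snd h g).fiber u)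
      (T : ((pullback.snd h g).fiber u).Opens),
      pullback.fst h g ((pullback.snd h g).fiberι u x₁) = h.fiberι s x ∧ x₁ ∈ T ∧
      GeometricallyConnected (T.ι ≫ (pullback.snd h g).fiberToSpecResidueField u) := by
  let F := h.fiber s
  let fF := h.fiberToSpecResidueField s
  haveI : LocallyOfFiniteType fF := MorphismProperty.pullback_snd _ _ inferInstance
  haveI : GeometricallyReduced fF := MorphismProperty.pullback_snd _ _ inferInstance
  haveI : IsLocallyNoetherian F := LocallyOfFiniteType.isLocallyNoetherian fF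
  obtain ⟨T, hxT, hTc⟩ := exists_connected_open x
  obtain ⟨Ω, iF, iA, h1, h2, p₀, hp₀, hp₀T⟩ :=
    exists_sep_point (k := S.residueField s) (Field.toIsField _) fF T ⟨x, hxT⟩
  obtain ⟨U, g, u, hu, hg, ⟨e⟩⟩ := @FlatMor12.exists_etale_realise S s Ω iF iA h1 h2
  let r : S.residueField s ⟶ U.residueField u := (S.residueFieldCongr hu).inv ≫ g.residueFieldMap u
  letI := r.hom.toAlgebra
  haveI hfin : Module.Finite (S.residueField s) (U.residueField u) := Module.Finite.equiv e.toLinearEquiv
  have hr : Spec.map r ≫ S.fromSpecResidueField s = U.fromSpecResidueField u ≫ g := by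
    simp only [r, Spec.map_comp, Category.assoc, Scheme.residueFieldCongr_inv,
      Scheme.residueFieldCongr_fromSpecResidueField, Scheme.Hom.SpecMap_residueFieldMap_fromSpecResidueField]
  let f₁ := pullback.snd h g
  let F₁ := f₁.fiber u
  let fF₁ := f₁.fiberToSpecResidueField u
  let q₀ : Spec (U.residueField u) ⟶ F := Spec.map (CommRingCat.ofHom e.toAlgHom.toRingHom) ≫ p₀
  have hq₀ : q₀ ≫ fF = Spec.map r := by
    rw [Category.assoc, hp₀, ← Spec.map_comp]
    congr 1
    ext z
    exact e.commutes z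
  have hw : f₁.fiberι u ≫ pullback.fst h g ≫ h = (fF₁ ≫ Spec.map r) ≫ S.fromSpecResidueField s := by
    rw [Category.assoc, hr, pullback.condition, ← Category.assoc, ← Category.assoc]
    congr 1
    exact pullback.condition
  let π : F₁ ⟶ F := pullback.lift (f₁.fiberι u ≫ pullback.fst h g) (fF₁ ≫ Spec.map r) (by
    rw [Category.assoc]; exact hw)
  have hπ1 : π ≫ h.fiberι s = f₁.fiberι u ≫ pullback.fst h g := pullback.lift_fst _ _ _
  have hπ2 : π ≫ fF = fF₁ ≫ Spec.map r := pullback.lift_snd _ _ _
  have hpb : IsPullback π fF₁ fF (Spec.map r) := by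
    refine IsPullback.of_right ?_ hπ2 (IsPullback.of_hasPullback h (S.fromSpecResidueField s))
    rw [hr, show π ≫ pullback.fst h (S.fromSpecResidueField s) = f₁.fiberι u ≫ pullback.fst h g from hπ1]
    exact (IsPullback.of_hasPullback f₁ (U.fromSpecResidueField u)).paste_horiz (IsPullback.of_hasPullback h g)
  haveI : IsFinite (Spec.map r) := (IsFinite.SpecMap_iff _).2 hfin
  haveI : Flat (Spec.map r) := HasRingHomProperty.Spec_iff.2
    (show r.hom.Flat from (inferInstance : Module.Flat (S.residueField s) (U.residueField u)))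
  haveI : LocallyOfFinitePresentation (Spec.map r) := HasRingHomProperty.Spec_iff.2
    (show r.hom.FinitePresentation from
      (Algebra.FinitePresentation.of_finiteType.1 inferInstance :
        Algebra.FinitePresentation (S.residueField s) (U.residueField u)))
  haveI : IsFinite π := MorphismProperty.of_isPullback hpb.flip inferInstance
  haveI : Flat π := MorphismProperty.of_isPullback hpb.flip inferInstance
  haveI : LocallyOfFinitePresentation π := MorphismProperty.of_isPullback hpb.flip inferInstance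
  -- the rational point
  obtain ⟨z, hz1, hz2⟩ : ∃ z : Spec (U.residueField u) ⟶ F₁, z ≫ π = q₀ ∧ z ≫ fF₁ = 𝟙 _ :=
    ⟨hpb.lift q₀ (𝟙 _) (by rw [hq₀, Category.id_comp]), hpb.lift_fst _ _ _, hpb.lift_snd _ _ _⟩
  let T₁ := π ⁻¹ᵁ T
  have hzT : Set.range z ⊆ Set.range T₁.ι := by
    rintro _ ⟨a, rfl⟩
    rw [Scheme.Opens.range_ι]
    show π (z a) ∈ T
    rw [← Scheme.Hom.comp_apply, hz1]
    exact hp₀T ⟨_, rfl⟩
  let zT := IsOpenImmersion.lift T₁.ι z hzT
  haveI : LocallyOfFiniteType fF₁ := MorphismProperty.pullback_snd _ _ inferInstance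
  haveI : IsLocallyNoetherian F₁ := LocallyOfFiniteType.isLocallyNoetherian fF₁
  let z₀ : T₁ := zT (IsLocalRing.closedPoint (U.residueField u))
  let C : T₁.toScheme.Opens := ⟨connectedComponent z₀, SGA3cLib.isOpen_connectedComponent (X := T₁.toScheme) z₀⟩
  haveI : ConnectedSpace C.toScheme :=
    (isConnected_iff_connectedSpace.1 isConnected_connectedComponent : ConnectedSpace ↥(connectedComponent z₀))
  haveI : IsClosedImmersion C.ι := IsClosedImmersion.of_isPreimmersion C.ι (by
    rw [Scheme.Opens.range_ι]; exact isClosed_connectedComponent)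
  have hgc := SGA3cLib.geometricallyConnected_of_rational_point (U.residueField u) (T₁.ι ≫ fF₁) C.ι zT
    (by rw [← Category.assoc, IsOpenImmersion.lift_fac]; exact hz2)
    (by
      rw [Scheme.Opens.range_ι]
      rintro _ ⟨a, rfl⟩
      rw [Subsingleton.elim a (IsLocalRing.closedPoint (U.residueField u))]
      exact mem_connectedComponent)
  -- `C` surjects onto `T`
  haveI : IsFinite (π ∣_ T) := MorphismProperty.of_isPullback (isPullback_morphismRestrict π T).flip inferInstance
  haveI : Flat (π ∣_ T) := MorphismProperty.of_isPullback (isPullback_morphismRestrict π T).flip inferInstance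
  haveI : LocallyOfFinitePresentation (π ∣_ T) :=
    MorphismProperty.of_isPullback (isPullback_morphismRestrict π T).flip inferInstance
  haveI : ConnectedSpace T.toScheme := hTc
  have himg : (π ∣_ T) '' (C : Set T₁.toScheme) = Set.univ :=
    IsClopen.eq_univ ⟨(π ∣_ T).isClosedMap _ isClosed_connectedComponent, (π ∣_ T).isOpenMap _ C.2⟩
      ⟨_, z₀, mem_connectedComponent, rfl⟩
  obtain ⟨x₂, hx₂C, hx₂⟩ := himg.ge (Set.mem_univ (⟨x, hxT⟩ : T.toScheme))
  have hx₂' : π (T₁.ι x₂) = x := by
    rw [← Scheme.Hom.comp_apply, ← morphismRestrict_ι, Scheme.Hom.comp_apply, hx₂]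
    rfl
  refine ⟨U, g, u, hg, T₁.ι x₂, T₁.ι ''ᵁ C, ?_, ⟨x₂, hx₂C, rfl⟩, ?_⟩
  · rw [← Scheme.Hom.comp_apply, ← hπ1, Scheme.Hom.comp_apply, hx₂']
  · have e2 : (T₁.ι ''ᵁ C).ι = (T₁.ι.isoImage C).inv ≫ C.ι ≫ T₁.ι := by
      rw [Iso.eq_inv_comp, Scheme.Hom.isoImage_hom_ι]
    rw [show (T₁.ι ''ᵁ C).ι ≫ (pullback.snd h g).fiberToSpecResidueField u =
      (T₁.ι.isoImage C).inv ≫ (C.ι ≫ T₁.ι ≫ fF₁) by rw [e2]; simp only [Category.assoc]; rfl]
    exact (MorphismProperty.cancel_left_of_respectsIso @GeometricallyConnected _ _).2 hgc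

end Groth.Agent.FlatMorConnCover
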